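import Mathlib
import Cfsg.Agent.Lib.Helper67.LSF.Defs

/-!
# LSF (S5286), package [TREE]: a finite subgroup of `FreeGroup X ⋊ Q` fixes a vertex of every
invariant convex set of vertices of the Cayley tree (conditional on [VSHAPE]).
-/

set_option autoImplicit false

namespace Cfsg.Agent.Lib.Helper47.LSF

open Cfsg Cfsg.Agent.Lib.Helper67.LSF

universe u

/-- The sign homomorphism: every basis element goes to `1 : ℤ`. -/
noncomputable def sgn (X : Type u) : FreeGroup X →* Multiplicative ℤ :=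
  FreeGroup.lift (fun _ => Multiplicative.ofAdd (1 : ℤ))

theorem sgn_autX {Q : Type u} [Group Q] {X : Type u} (α : Q →* Equiv.Perm X) (q : Q)
    (w : FreeGroup X) : sgn X (autX α q w) = sgn X w := by
  have h : (sgn X).comp (autX α q).toMonoidHom = sgn X := by
    apply FreeGroup.ext_hom
    intro x
    show sgn X (autX α q (FreeGroup.of x)) = sgn X (FreeGroup.of x)
    rw [autX_of]
    simp [sgn]
  exact DFunLike.congr_fun h w

theorem norm_autX_le {Q : Type u} [Group Q] {X : Type u} [DecidableEq X] (α : Q →* Equiv.Perm X)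
    (q : Q) (w : FreeGroup X) : (autX α q w).norm ≤ w.norm := by
  have h : autX α q w = FreeGroup.mk (w.toWord.map fun ℓ => (α q ℓ.1, ℓ.2)) := by
    conv_lhs => rw [← FreeGroup.mk_toWord (x := w)]
    exact autX_mk α q _
  rw [h]
  refine FreeGroup.norm_mk_le.trans ?_
  simp [FreeGroup.norm]

theorem norm_autX {Q : Type u} [Group Q] {X : Type u} [DecidableEq X] (α : Q →* Equiv.Perm X)
    (q : Q) (w : FreeGroup X) : (autX α q w).norm = w.norm := by
  apply le_antisymm (norm_autX_le α q w)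
  have h := norm_autX_le α q⁻¹ (autX α q w)
  have e : autX α q⁻¹ (autX α q w) = w := by
    rw [← MulAut.mul_apply, ← map_mul, inv_mul_cancel, map_one, MulAut.one_apply]
  rwa [e] at h

theorem sgn_ne_one_of_norm_one {X : Type u} [DecidableEq X] (w : FreeGroup X) (h : w.norm = 1) :
    sgn X w ≠ 1 := by
  obtain ⟨ℓ, hℓ⟩ := List.length_eq_one_iff.1 h
  have hw : w = FreeGroup.mk [ℓ] := by rw [← hℓ, FreeGroup.mk_toWord]
  rw [hw, sgn, FreeGroup.lift_mk]
  rcases ℓ with ⟨x, b⟩
  intro h'
  have h2 := congrArg Multiplicative.toAdd h'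
  cases b <;> simp at h2

theorem pkgTree : PkgVShape.{u} → PkgTree.{u} := by
  intro hVS Q _ X α H _ V h1 hinv hconv
  classical
  have := Fintype.ofFinite H
  -- the affine action
  let act : SemidirectProduct (FreeGroup X) Q (autX α) → FreeGroup X → FreeGroup X :=
    fun h v => h.left * autX α h.right v
  have hactdef : ∀ h v, act h v = h.left * autX α h.right v := fun _ _ => rfl
  have act_mul : ∀ h h' v, act (h * h') v = act h (act h' v) := by
    intro h h' v
    simp only [hactdef, SemidirectProduct.mul_left, SemidirectProduct.mul_right, map_mul,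
      MulAut.mul_apply, mul_assoc]
  have act_one : ∀ v, act 1 v = v := by
    intro v
    simp [hactdef]
  have act_left : ∀ h h' : SemidirectProduct (FreeGroup X) Q (autX α),
      (h * h').left = act h h'.left := fun h h' => by
    rw [hactdef, SemidirectProduct.mul_left]
  have act_dist : ∀ h u v, (act h u)⁻¹ * act h v = autX α h.right (u⁻¹ * v) := by
    intro h u v
    rw [hactdef, hactdef, map_mul, map_inv]
    group
  -- the radius
  let R : FreeGroup X → ℕ := fun v => Finset.univ.sup fun h : H => (v⁻¹ * h.1.left).norm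
  have hR_le : ∀ v (h : H), (v⁻¹ * h.1.left).norm ≤ R v := fun v h =>
    Finset.le_sup (f := fun h : H => (v⁻¹ * h.1.left).norm) (Finset.mem_univ h)
  have hR_ge : ∀ (h : H) v, R v ≤ R (act h.1 v) := by
    intro h v
    apply Finset.sup_le
    intro h' _
    have h2 := hR_le (act h.1 v) (h * h')
    have e : (act h.1 v)⁻¹ * ((h * h' : H) : SemidirectProduct (FreeGroup X) Q (autX α)).left
        = autX α h.1.right (v⁻¹ * h'.1.left) := by
      rw [Subgroup.coe_mul, act_left, act_dist]
    rw [e, norm_autX] at h2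
    exact h2
  have hR_act : ∀ (h : H) v, R (act h.1 v) = R v := by
    intro h v
    apply le_antisymm _ (hR_ge h v)
    have h2 := hR_ge h⁻¹ (act h.1 v)
    rw [← act_mul, ← Subgroup.coe_mul, inv_mul_cancel, Subgroup.coe_one, act_one] at h2
    exact h2
  -- a vertex of minimal radius
  obtain ⟨v, hvV, hvmin⟩ : ∃ v ∈ V, ∀ u ∈ V, R v ≤ R u := by
    have hne : (R '' V).Nonempty := ⟨R 1, 1, h1, rfl⟩
    obtain ⟨v, hvV, hv⟩ := Nat.sInf_mem hne
    exact ⟨v, hvV, fun u hu => hv ▸ Nat.sInf_le ⟨u, hu, rfl⟩⟩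
  -- two vertices of minimal radius are at distance at most one
  have hA : ∀ u ∈ V, R u = R v → (v⁻¹ * u).norm ≤ 1 := by
    intro u huV huR
    by_contra hlt
    have h2 : 2 ≤ (v⁻¹ * u).toWord.length := by
      have : ¬ (v⁻¹ * u).toWord.length ≤ 1 := hlt
      omega
    obtain ⟨ℓ, L₂, hL⟩ : ∃ ℓ L₂, (v⁻¹ * u).toWord = ℓ :: L₂ := by
      cases hw : (v⁻¹ * u).toWord with
      | nil => rw [hw] at h2; simp at h2
      | cons ℓ L₂ => exact ⟨ℓ, L₂, rfl⟩
    have hL₂ : L₂ ≠ [] := by
      intro h0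
      rw [hL, h0] at h2
      simp at h2
    have hred : FreeGroup.IsReduced ([ℓ] ++ L₂) := by
      have := FreeGroup.isReduced_toWord (x := v⁻¹ * u)
      rw [hL] at this
      exact this
    have hmk : FreeGroup.mk ([ℓ] ++ L₂) = v⁻¹ * u := by
      have := FreeGroup.mk_toWord (x := v⁻¹ * u)
      rw [hL] at this
      exact this
    have hu' : v * FreeGroup.mk ([ℓ] ++ L₂) = u := by rw [hmk]; group
    have hmid : v * FreeGroup.mk [ℓ] ∈ V := hconv v hvV [ℓ] L₂ hred (by rw [hu']; exact huV)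
    have hlt' : ∀ h : H, ((v * FreeGroup.mk [ℓ])⁻¹ * h.1.left).norm < R v := by
      intro h
      have h3 := hVS ((h.1.left)⁻¹ * v) [ℓ] L₂ hred (by simp) hL₂
      have e1 : (h.1.left)⁻¹ * v * FreeGroup.mk [ℓ] = ((v * FreeGroup.mk [ℓ])⁻¹ * h.1.left)⁻¹ := by
        group
      have e2 : (h.1.left)⁻¹ * v = (v⁻¹ * h.1.left)⁻¹ := by group
      have e3 : (h.1.left)⁻¹ * v * FreeGroup.mk ([ℓ] ++ L₂) = (u⁻¹ * h.1.left)⁻¹ := by
        rw [mul_assoc, hu']; group
      rw [e3, e1, e2, FreeGroup.norm_inv_eq, FreeGroup.norm_inv_eq, FreeGroup.norm_inv_eq] at h3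
      refine lt_of_lt_of_le h3 (max_le (hR_le v h) ?_)
      rw [← huR]
      exact hR_le u h
    have hpos : 0 < R v := lt_of_le_of_lt (Nat.zero_le _) (hlt' 1)
    have hRmid : R (v * FreeGroup.mk [ℓ]) < R v := by
      apply (Finset.sup_lt_iff (by exact hpos)).2
      intro h _
      exact hlt' h
    exact absurd (hvmin _ hmid) (not_le.2 hRmid)
  -- the displacement homomorphism into `ℤ`
  have hd_mul : ∀ h h' : H, sgn X (v⁻¹ * act (h * h' : H).1 v)
      = sgn X (v⁻¹ * act h.1 v) * sgn X (v⁻¹ * act h'.1 v) := by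
    intro h h'
    have e : v⁻¹ * act (h * h' : H).1 v
        = (v⁻¹ * act h.1 v) * autX α h.1.right (v⁻¹ * act h'.1 v) := by
      rw [Subgroup.coe_mul, act_mul, ← act_dist]
      group
    rw [e, map_mul, sgn_autX]
  have hd_pow : ∀ (h : H) (n : ℕ), sgn X (v⁻¹ * act (h ^ n : H).1 v)
      = sgn X (v⁻¹ * act h.1 v) ^ n := by
    intro h n
    induction n with
    | zero => simp [act_one]
    | succ n ih => rw [pow_succ, hd_mul, ih, pow_succ]
  have hd_one : ∀ h : H, sgn X (v⁻¹ * act h.1 v) = 1 := by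
    intro h
    have h2 := hd_pow h (Nat.card H)
    rw [pow_card_eq_one'] at h2
    simp only [Subgroup.coe_one, act_one, inv_mul_cancel, map_one] at h2
    have h3 := congrArg Multiplicative.toAdd h2
    rw [toAdd_pow, toAdd_one] at h3
    have h4 : (Nat.card H : ℤ) ≠ 0 := by exact_mod_cast Nat.card_pos.ne'
    have h5 : Multiplicative.toAdd (sgn X (v⁻¹ * act h.1 v)) = 0 := by
      rcases smul_eq_zero.1 h3.symm with h6 | h6
      · exact absurd (by exact_mod_cast h6) Nat.card_pos.ne'
      · exact h6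
    exact Multiplicative.toAdd.injective (by rw [h5]; rfl)
  refine ⟨v, hvV, fun h hh => ?_⟩
  have hu : act h v ∈ V := hinv h hh v hvV
  have hRu : R (act h v) = R v := hR_act ⟨h, hh⟩ v
  have hle := hA _ hu hRu
  have hne1 : (v⁻¹ * act h v).norm ≠ 1 := fun h1' =>
    sgn_ne_one_of_norm_one _ h1' (hd_one ⟨h, hh⟩)
  have h0 : (v⁻¹ * act h v).norm = 0 := by omega
  rw [FreeGroup.norm_eq_zero] at h0
  show act h v = v
  exact (inv_mul_eq_one.1 h0).symm

end Cfsg.Agent.Lib.Helper47.LSF
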